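import Groth.Prelude.Def_NonAbH2
import Groth.Prelude.Def_ChGrp

/-! # pseudo-torsors on points -/

universe u

open CategoryTheory MonoidalCategory CartesianMonoidalCategory MonObj GrpObj AlgebraicGeometry

namespace Groth.Agent.Torsor

section

variable {S : Scheme.{u}} {G X Y : Over S} [GrpObj G] (a : AlgGrp.Action G X)

/-- the action on points -/
noncomputable def smul {T : Over S} (g : T ⟶ G) (x : T ⟶ X) : T ⟶ X := lift g x ≫ a.act

lemma comp_smul {T U : Over S} (v : U ⟶ T) (g : T ⟶ G) (x : T ⟶ X) :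
    v ≫ smul a g x = smul a (v ≫ g) (v ≫ x) := by
  rw [smul, smul, comp_lift_assoc]

lemma mul_smul {T : Over S} (g h : T ⟶ G) (x : T ⟶ X) :
    smul a (g * h) x = smul a g (smul a h x) := by
  have := lift (lift g h) x ≫= a.mul_act
  rw [lift_whiskerRight_assoc, ← Hom.mul_def] at this
  rw [smul, this, lift_lift_associator_hom_assoc, lift_whiskerLeft_assoc]
  rfl

lemma one_smul {T : Over S} (x : T ⟶ X) : smul a (1 : T ⟶ G) x = x := by
  have := lift (toUnit T) x ≫= a.one_act
  rw [lift_whiskerRight_assoc, lift_leftUnitor_hom, ← Hom.one_def] at this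
  exact this

/-- the shear map is an isomorphism iff simply transitive on points -/
lemma isPseudoTorsor_iff :
    NonAbH1.IsPseudoTorsorSch a ↔
      ∀ (T : Over S) (x y : T ⟶ X), ∃! g : T ⟶ G, smul a g x = y := by
  constructor
  · intro h T x y
    have : IsIso (lift a.act (snd G X)) := h
    let z := lift y x ≫ inv (lift a.act (snd G X))
    have hz : z ≫ lift a.act (snd G X) = lift y x := by
      simp only [z, Category.assoc, IsIso.inv_hom_id, Category.comp_id]
    have h1 : z ≫ a.act = y := by simpa using hz =≫ fst X X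
    have h2 : z ≫ snd G X = x := by simpa using hz =≫ snd X X
    have hl : lift (z ≫ fst G X) x = z := hom_ext _ _ (by simp) (by simp [h2])
    refine ⟨z ≫ fst G X, ?_, fun g hg ↦ ?_⟩
    · change lift (z ≫ fst G X) x ≫ a.act = y
      rw [hl, h1]
    · have : lift g x = z := by
        rw [← cancel_mono (lift a.act (snd G X)), hz, comp_lift, lift_snd]
        exact congrArg (lift · x) hg
      rw [← this, lift_fst]
  · intro h
    obtain ⟨g, hg, hu⟩ := h (X ⊗ X) (snd X X) (fst X X)
    refine ⟨⟨lift g (snd X X), ?_, ?_⟩⟩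
    · apply hom_ext
      · obtain ⟨g', -, hu'⟩ := h (G ⊗ X) (snd G X) a.act
        simp only [Category.assoc, lift_fst, Category.id_comp]
        have e1 : smul a (lift a.act (snd G X) ≫ g) (snd G X) = a.act := by
          have := lift a.act (snd G X) ≫= hg
          rwa [comp_smul, lift_snd, lift_fst] at this
        have e2 : smul a (fst G X) (snd G X) = a.act := by
          rw [smul, lift_fst_snd, Category.id_comp]
        exact (hu' _ e1).trans (hu' _ e2).symm
      · simp
    · apply hom_ext
      · simpa [smul] using hg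
      · simp

/-- translation of a section trivialises -/
lemma existsUnique_smul {T : Over S} (h : NonAbH1.IsPseudoTorsorSch a) (s : T ⟶ X)
    {U : Over S} (v : U ⟶ T) (x : U ⟶ X) : ∃! g : U ⟶ G, smul a g (v ≫ s) = x :=
  (isPseudoTorsor_iff a).mp h U _ _

lemma isIso_triv_iff {T : Over S} (s : T ⟶ X) :
    IsIso (lift ((G ◁ s) ≫ a.act) (snd G T)) ↔
      ∀ (U : Over S) (v : U ⟶ T) (x : U ⟶ X), ∃! g : U ⟶ G, smul a g (v ≫ s) = x := by
  have key : ∀ {U : Over S} (g : U ⟶ G) (v : U ⟶ T),
      lift g v ≫ (G ◁ s) ≫ a.act = smul a g (v ≫ s) := fun g v ↦ by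
    rw [lift_whiskerLeft_assoc]; rfl
  constructor
  · intro h U v x
    let τ := lift ((G ◁ s) ≫ a.act) (snd G T)
    let z := lift x v ≫ inv τ
    have hz : z ≫ τ = lift x v := by
      simp only [z, Category.assoc, IsIso.inv_hom_id, Category.comp_id]
    have h1 : z ≫ (G ◁ s) ≫ a.act = x := by simpa [τ] using hz =≫ fst X T
    have h2 : z ≫ snd G T = v := by simpa [τ] using hz =≫ snd X T
    have hl : lift (z ≫ fst G T) v = z := hom_ext _ _ (by simp) (by simp [h2])
    refine ⟨z ≫ fst G T, ?_, fun g hg ↦ ?_⟩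
    · change smul a (z ≫ fst G T) (v ≫ s) = x
      rw [← key, hl, h1]
    · have : lift g v = z := by
        rw [← cancel_mono τ, hz, comp_lift, lift_snd, key]
        exact congrArg (lift · v) hg
      rw [← this, lift_fst]
  · intro h
    obtain ⟨g, hg, -⟩ := h (X ⊗ T) (snd X T) (fst X T)
    refine ⟨⟨lift g (snd X T), ?_, ?_⟩⟩
    · apply hom_ext
      · simp only [Category.assoc, lift_fst, Category.id_comp]
        obtain ⟨g', -, hu'⟩ := h (G ⊗ T) (snd G T) ((G ◁ s) ≫ a.act)
        have e1 : smul a (lift ((G ◁ s) ≫ a.act) (snd G T) ≫ g) (snd G T ≫ s) = (G ◁ s) ≫ a.act := by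
          have := lift ((G ◁ s) ≫ a.act) (snd G T) ≫= hg
          rwa [comp_smul, lift_snd_assoc, lift_fst] at this
        have e2 : smul a (fst G T) (snd G T ≫ s) = (G ◁ s) ≫ a.act := by
          rw [← key, lift_fst_snd, Category.id_comp]
        exact (hu' _ e1).trans (hu' _ e2).symm
      · simp
    · apply hom_ext
      · simp only [Category.assoc, lift_fst, Category.id_comp]
        rw [key]
        exact hg
      · simp

/-- a trivialisation over `T` gives simple transitivity on points over `T` -/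
lemma existsUnique_of_triv {T : Over S} (s : T ⟶ X)
    (h : IsIso (lift ((G ◁ s) ≫ a.act) (snd G T))) {U : Over S} (v : U ⟶ T) (x y : U ⟶ X) :
    ∃! g : U ⟶ G, smul a g x = y := by
  obtain ⟨g₁, h₁, u₁⟩ := (isIso_triv_iff a s).mp h U v x
  obtain ⟨g₂, h₂, u₂⟩ := (isIso_triv_iff a s).mp h U v y
  refine ⟨g₂ * g₁⁻¹, ?_, fun g hg ↦ ?_⟩
  · change smul a (g₂ * g₁⁻¹) x = y
    rw [← h₁, ← mul_smul, inv_mul_cancel_right]
    exact h₂
  · have : smul a (g * g₁) (v ≫ s) = y := by rw [mul_smul]; exact (congrArg (smul a g) h₁).trans hg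
    rw [← u₂ _ this, mul_inv_cancel_right]

lemma smul_equivariant {b : AlgGrp.Action G Y} {f : X ⟶ Y} (hf : AlgGrp.Action.IsEquivariant a b f)
    {T : Over S} (g : T ⟶ G) (x : T ⟶ X) : smul a g x ≫ f = smul b g (x ≫ f) := by
  have := lift g x ≫= hf
  rwa [lift_whiskerLeft_assoc, ← Category.assoc] at this

end

end Groth.Agent.Torsor
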