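import Groth.Agent.Torsor.Points
import Groth.Agent.FpqcDescent.Props
import Groth.Prelude.Def_ActBC
import Mathlib.CategoryTheory.Comma.Over.Basic

/-! # fpqc descent for torsors -/

universe u

open CategoryTheory MonoidalCategory CartesianMonoidalCategory MonObj GrpObj AlgebraicGeometry
open CategoryTheory.Limits

namespace Groth.Agent.Torsor

variable {S : Scheme.{u}} {G X Y : Over S} [GrpObj G]

set_option backward.isDefEq.respectTransparency.types false in
/-- A morphism over `S` is an isomorphism when it is so on points over the members of a covering. -/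
theorem isIso_of_local {A B : Over S} (φ : A ⟶ B) {R : Presieve S}
    (hR : R ∈ Scheme.fpqcPrecoverage S)
    (h : ∀ ⦃S' : Scheme.{u}⦄ (f : S' ⟶ S), R f → ∀ (U : Over S) (_ : U ⟶ Over.mk f) (b : U ⟶ B),
      ∃! z : U ⟶ A, z ≫ φ = b) : IsIso φ := by
  have hR' := Precoverage.pullbackArrows_mem (J := Scheme.fpqcPrecoverage) B.hom hR
  have : IsIso φ.left := by
    refine Groth.Agent.FpqcDescent.of_fpqcPrecoverage (MorphismProperty.isomorphisms Scheme.{u})
      φ.left hR' fun W p hp ↦ ?_
    cases hp with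
    | mk S' f hf =>
      let U₁ : Over S := Over.mk (pullback.snd f B.hom ≫ B.hom)
      let t₁ : U₁ ⟶ Over.mk f := Over.homMk (pullback.fst f B.hom) pullback.condition
      let b₁ : U₁ ⟶ B := Over.homMk (pullback.snd f B.hom) rfl
      obtain ⟨z₁, hz₁, -⟩ := h f hf U₁ t₁ b₁
      have hz₁' : z₁.left ≫ φ.left = pullback.snd f B.hom :=
        congrArg CommaMorphism.left hz₁
      change IsIso (pullback.snd φ.left (pullback.snd f B.hom))
      refine ⟨pullback.lift z₁.left (𝟙 _) (by rw [hz₁', Category.id_comp]), ?_,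
        pullback.lift_snd _ _ _⟩
      let P := pullback φ.left (pullback.snd f B.hom)
      let U₂ : Over S := Over.mk (pullback.fst φ.left (pullback.snd f B.hom) ≫ A.hom)
      let q : U₂ ⟶ U₁ := Over.homMk (pullback.snd φ.left (pullback.snd f B.hom)) (by
        change pullback.snd φ.left (pullback.snd f B.hom) ≫ pullback.snd f B.hom ≫ B.hom =
          pullback.fst φ.left (pullback.snd f B.hom) ≫ A.hom
        rw [← pullback.condition_assoc, Over.w φ])
      obtain ⟨z₂, -, huniq⟩ := h f hf U₂ (q ≫ t₁) (q ≫ b₁)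
      let z₃ : U₂ ⟶ A := Over.homMk (pullback.fst φ.left (pullback.snd f B.hom)) rfl
      have e1 : z₃ ≫ φ = q ≫ b₁ := Over.OverMorphism.ext pullback.condition
      have e2 : (q ≫ z₁) ≫ φ = q ≫ b₁ := by rw [Category.assoc, hz₁]
      have e3 := congrArg CommaMorphism.left ((huniq _ e2).trans (huniq _ e1).symm)
      apply pullback.hom_ext
      · rw [Category.assoc, pullback.lift_fst, Category.id_comp]
        exact e3
      · rw [Category.assoc, pullback.lift_snd, Category.comp_id, Category.id_comp]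
  have : IsIso ((Over.forget S).map φ) := this
  exact isIso_of_reflects_iso φ (Over.forget S)

/-- The structure morphism of an fpqc torsor has every fpqc-local property of the group. -/
theorem of_isTorsorFor {a : AlgGrp.Action G X} (h : NonAbH1.IsTorsorFor Scheme.fpqcPrecoverage a)
    (P : MorphismProperty Scheme.{u}) [P.IsStableUnderBaseChange] [IsZariskiLocalAtTarget P]
    [P.DescendsAlong (@Surjective ⊓ @Flat ⊓ @QuasiCompact)] (hG : P G.hom) : P X.hom := by
  obtain ⟨hiso, R, hR, hs⟩ := h
  refine Groth.Agent.FpqcDescent.of_fpqcPrecoverage P X.hom hR fun S' f hf ↦ ?_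
  obtain ⟨s, rfl⟩ := hs f hf
  have h1 : P (pullback.snd G.hom X.hom) := P.pullback_snd _ _ hG
  have : IsIso (lift a.act (snd G X)) := hiso
  let e := (lift a.act (snd G X)).left
  have : IsIso e := Functor.map_isIso (Over.forget S) (lift a.act (snd G X))
  have he : e ≫ pullback.snd X.hom X.hom = pullback.snd G.hom X.hom :=
    congrArg CommaMorphism.left (lift_snd a.act (snd G X))
  rw [← he, P.cancel_left_of_respectsIso] at h1
  refine (P.cancel_left_of_respectsIso (pullbackLeftPullbackSndIso X.hom X.hom s).hom _).mp ?_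
  rw [pullbackLeftPullbackSndIso_hom_snd]
  exact P.pullback_snd _ _ h1

set_option backward.isDefEq.respectTransparency.types false in
theorem surjective_of_isTorsorFor {a : AlgGrp.Action G X}
    (h : NonAbH1.IsTorsorFor Scheme.fpqcPrecoverage a) : Surjective X.hom := by
  refine of_isTorsorFor h (@Surjective : MorphismProperty Scheme.{u}) ⟨fun x ↦ ⟨η[G].left x, ?_⟩⟩
  rw [← Scheme.Hom.comp_apply, Over.w η[G]]
  rfl

/-- equivariant morphisms of torsors are isomorphisms -/
theorem isIso_of_isEquivariant {a : AlgGrp.Action G X} {b : AlgGrp.Action G Y}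
    (ha : NonAbH1.IsTorsorFor Scheme.fpqcPrecoverage a)
    (hb : NonAbH1.IsPseudoTorsorSch b) (f : X ⟶ Y) (hf : AlgGrp.Action.IsEquivariant a b f) :
    IsIso f := by
  obtain ⟨hiso, R, hR, hs⟩ := ha
  refine isIso_of_local f hR fun S' g hg U t y ↦ ?_
  obtain ⟨s, hsw⟩ := hs g hg
  let x₀ : U ⟶ X := t ≫ Over.homMk s hsw
  obtain ⟨c, hc, -⟩ := (isPseudoTorsor_iff b).mp hb U (x₀ ≫ f) y
  refine ⟨smul a c x₀, ?_, fun z hz ↦ ?_⟩
  · exact (smul_equivariant a hf c x₀).trans hc
  · obtain ⟨d, hd, -⟩ := (isPseudoTorsor_iff a).mp hiso U x₀ z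
    have h1 : smul b d (x₀ ≫ f) = y := by
      rw [← smul_equivariant a hf, hd]
      exact hz
    rw [← hd, ((isPseudoTorsor_iff b).mp hb U (x₀ ≫ f) y).unique h1 hc]

/-- being a pseudo-torsor is fpqc local -/
theorem isPseudoTorsor_of_local {a : AlgGrp.Action G X} {R : Presieve S}
    (hR : R ∈ Scheme.fpqcPrecoverage S)
    (h : ∀ ⦃S' : Scheme.{u}⦄ (f : S' ⟶ S), R f →
      ∀ (U : Over S) (_ : U ⟶ Over.mk f) (x y : U ⟶ X), ∃! g : U ⟶ G, smul a g x = y) :
    NonAbH1.IsPseudoTorsorSch a := by
  refine isIso_of_local _ hR fun S' f hf U t b ↦ ?_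
  obtain ⟨g, hg, hu⟩ := h f hf U t (b ≫ snd X X) (b ≫ fst X X)
  refine ⟨lift g (b ≫ snd X X), ?_, fun z hz ↦ ?_⟩
  · apply hom_ext
    · rw [Category.assoc, lift_fst]; exact hg
    · simp
  · have h1 : z ≫ a.act = b ≫ fst X X := by simpa using hz =≫ fst X X
    have h2 : z ≫ snd G X = b ≫ snd X X := by simpa using hz =≫ snd X X
    have hl : lift (z ≫ fst G X) (b ≫ snd X X) = z := hom_ext _ _ (by simp) (by simp [h2])
    have : smul a (z ≫ fst G X) (b ≫ snd X X) = b ≫ fst X X := by rw [smul, hl, h1]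
    rw [← hu _ this, hl]

end Groth.Agent.Torsor

namespace Groth.Agent.Torsor

variable {S S' : Scheme.{u}}

set_option backward.isDefEq.respectTransparency.types false in
/-- base change along a surjective flat quasi-compact morphism reflects isomorphisms -/
theorem isIso_of_pullback (f : S' ⟶ S) [Flat f] [Surjective f] [QuasiCompact f] {A B : Over S}
    (φ : A ⟶ B) [h : IsIso ((Over.pullback f).map φ)] : IsIso φ := by
  have h' : IsIso ((Over.pullback f).map φ).left := Functor.map_isIso (Over.forget S') ((Over.pullback f).map φ)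
  have sq : IsPullback (pullback.fst A.hom f) ((Over.pullback f).map φ).left φ.left (pullback.fst B.hom f) := by
    refine IsPullback.of_bot (v₂₁ := pullback.snd B.hom f) (v₂₂ := B.hom) (h₃₁ := f) ?_ ?_
      (IsPullback.of_hasPullback B.hom f)
    · rw [Over.w φ]
      have e : ((Over.pullback f).map φ).left ≫ pullback.snd B.hom f = pullback.snd A.hom f :=
        Over.w ((Over.pullback f).map φ)
      exact e ▸ IsPullback.of_hasPullback A.hom f
    · exact (pullback.lift_fst _ _ _).symm
  have : IsIso φ.left := MorphismProperty.of_isPullback_of_descendsAlong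
    (P := MorphismProperty.isomorphisms Scheme.{u})
    (Q := (@Surjective ⊓ @Flat ⊓ @QuasiCompact : MorphismProperty Scheme.{u})) sq.flip
    ⟨⟨inferInstance, inferInstance⟩, inferInstance⟩ h'
  have : IsIso ((Over.forget S).map φ) := this
  exact isIso_of_reflects_iso φ (Over.forget S)

/-- compose a covering of the source of an fpqc morphism -/
theorem exists_comp_covering (f : S' ⟶ S) [Flat f] [Surjective f] [QuasiCompact f] {R : Presieve S'}
    (hR : R ∈ Scheme.fpqcPrecoverage S') :
    ∃ R' ∈ Scheme.fpqcPrecoverage S, ∀ ⦃T : Scheme.{u}⦄ (g : T ⟶ S), R' g →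
      ∃ g' : T ⟶ S', R g' ∧ g' ≫ f = g := by
  obtain ⟨I, Z, g, rfl⟩ := R.exists_eq_ofArrows
  refine ⟨_, Precoverage.comp_mem_coverings
    (fun _ : PUnit.{u + 2} ↦ f) (by rw [Presieve.ofArrows_pUnit]; exact f.singleton_mem_fpqcPrecoverage)
    (fun _ ↦ g) (fun _ ↦ hR), ?_⟩
  rintro T _ ⟨p⟩
  exact ⟨g p.2, ⟨p.2⟩, rfl⟩

end Groth.Agent.Torsor
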