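import Groth.Agent.Torsor.Desc

/-! # Pushing forward torsors along a homomorphism to an affine group -/

universe u

open CategoryTheory CategoryTheory.Limits MonoidalCategory CartesianMonoidalCategory MonObj AlgebraicGeometry

namespace Groth.Agent.Torsor.Push

variable {S : Scheme.{u}} {J J' P C : Over S} [GrpObj J] [GrpObj J'] {a : AlgGrp.Action J P}
  (hP : NonAbH1.IsPseudoTorsorSch a) (u : J ⟶ J') [IsMonHom u] (s : C ⟶ P)

/-- the element carrying `x` to `y` -/
noncomputable def dv {T : Over S} (x y : T ⟶ P) : T ⟶ J :=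
  ((isPseudoTorsor_iff a).mp hP T x y).exists.choose

lemma dv_spec {T : Over S} (x y : T ⟶ P) : smul a (dv hP x y) x = y :=
  ((isPseudoTorsor_iff a).mp hP T x y).exists.choose_spec

lemma dv_unique {T : Over S} {x y : T ⟶ P} {g : T ⟶ J} (h : smul a g x = y) : g = dv hP x y :=
  ((isPseudoTorsor_iff a).mp hP T x y).unique h (dv_spec hP x y)

lemma dv_self {T : Over S} (x : T ⟶ P) : dv hP x x = 1 :=
  (dv_unique hP (one_smul a x)).symm

lemma dv_mul {T : Over S} (x y z : T ⟶ P) : dv hP y z * dv hP x y = dv hP x z :=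
  dv_unique hP (by rw [Torsor.mul_smul, dv_spec, dv_spec])

lemma comp_dv {T U : Over S} (v : U ⟶ T) (x y : T ⟶ P) :
    v ≫ dv hP x y = dv hP (v ≫ x) (v ≫ y) :=
  dv_unique hP (by rw [← Torsor.comp_smul, dv_spec])

/-- the cocycle: `t₀ s = cc(t₀, t₁) · t₁ s`, pushed along `u` -/
noncomputable def cc {T : Over S} (t₀ t₁ : T ⟶ C) : T ⟶ J' := dv hP (t₁ ≫ s) (t₀ ≫ s) ≫ u

lemma cc_self {T : Over S} (t : T ⟶ C) : cc hP u s t t = 1 := by
  rw [cc, dv_self, MonObj.one_comp]

lemma cc_mul {T : Over S} (t₀ t₁ t₂ : T ⟶ C) :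
    cc hP u s t₀ t₁ * cc hP u s t₁ t₂ = cc hP u s t₀ t₂ := by
  rw [cc, cc, cc, ← MonObj.mul_comp, dv_mul]

lemma comp_cc {T U : Over S} (v : U ⟶ T) (t₀ t₁ : T ⟶ C) :
    v ≫ cc hP u s t₀ t₁ = cc hP u s (v ≫ t₀) (v ≫ t₁) := by
  rw [cc, cc, ← Category.assoc, comp_dv, Category.assoc, Category.assoc]

/-- transport of points of `C ⊗ J'` -/
noncomputable def move {T : Over S} (v : T ⟶ C ⊗ J') (t : T ⟶ C) : T ⟶ C ⊗ J' :=
  lift t (v ≫ snd C J' * cc hP u s (v ≫ fst C J') t)

lemma move_fst {T : Over S} (v : T ⟶ C ⊗ J') (t : T ⟶ C) : move hP u s v t ≫ fst C J' = t :=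
  lift_fst _ _

lemma move_self {T : Over S} (v : T ⟶ C ⊗ J') : move hP u s v (v ≫ fst C J') = v := by
  rw [move, cc_self, _root_.mul_one, lift_comp_fst_snd]

lemma move_move {T : Over S} (v : T ⟶ C ⊗ J') (t₁ t₂ : T ⟶ C) :
    move hP u s (move hP u s v t₁) t₂ = move hP u s v t₂ := by
  rw [move, move, move, lift_fst, lift_snd, _root_.mul_assoc, cc_mul]

lemma comp_move {T U : Over S} (g : U ⟶ T) (v : T ⟶ C ⊗ J') (t : T ⟶ C) :
    g ≫ move hP u s v t = move hP u s (g ≫ v) (g ≫ t) := by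
  rw [move, move, comp_lift, comp_mul, comp_cc]
  simp only [Category.assoc]

variable {p : C.left ⟶ S} (hp : C.hom = p)

/-- the point over the base of a lift -/
noncomputable def ptV {T : Scheme.{u}} {x₀ : T ⟶ C.left}
    (v : Desc.Lifts (Over.mk (fst C J').left) x₀) : Over.mk (x₀ ≫ C.hom) ⟶ C ⊗ J' :=
  Over.homMk v.1 (by
    have h : v.1 ≫ (fst C J').left = x₀ := v.2
    have hw := Over.w (fst C J')
    change v.1 ≫ (C ⊗ J').hom = x₀ ≫ C.hom
    rw [← hw, reassoc_of% h])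

/-- the second point over the base -/
noncomputable def ptT {T : Scheme.{u}} {x₀ x₁ : T ⟶ C.left} (h : x₀ ≫ C.hom = x₁ ≫ C.hom) :
    Over.mk (x₀ ≫ C.hom) ⟶ C :=
  Over.homMk x₁ h.symm

omit [GrpObj J'] in
lemma ptV_fst {T : Scheme.{u}} {x₀ : T ⟶ C.left}
    (v : Desc.Lifts (Over.mk (fst C J').left) x₀) : ptV v ≫ fst C J' = ptT rfl :=
  Over.OverMorphism.ext v.2

/-- transport of lifts -/
noncomputable def moveLift {T : Scheme.{u}} (x₀ x₁ : T ⟶ C.left) (h : x₀ ≫ C.hom = x₁ ≫ C.hom)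
    (v : Desc.Lifts (Over.mk (fst C J').left) x₀) : Desc.Lifts (Over.mk (fst C J').left) x₁ :=
  ⟨(move hP u s (ptV v) (ptT h)).left, congrArg CommaMorphism.left (move_fst hP u s (ptV v) (ptT h))⟩

lemma moveLift_comp {T : Scheme.{u}} (x₀ x₁ x₂ : T ⟶ C.left) (h : x₀ ≫ C.hom = x₁ ≫ C.hom)
    (h' : x₁ ≫ C.hom = x₂ ≫ C.hom) (v : Desc.Lifts (Over.mk (fst C J').left) x₀) :
    moveLift hP u s x₁ x₂ h' (moveLift hP u s x₀ x₁ h v) = moveLift hP u s x₀ x₂ (h.trans h') v := by
  apply Subtype.ext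
  let φ : Over.mk (x₀ ≫ C.hom) ⟶ Over.mk (x₁ ≫ C.hom) :=
    Over.homMk (𝟙 T) ((Category.id_comp _).trans h.symm)
  have e : φ ≫ move hP u s (ptV (moveLift hP u s x₀ x₁ h v)) (ptT h') =
      move hP u s (ptV v) (ptT (h.trans h')) := by
    rw [comp_move, ← move_move hP u s (ptV v) (ptT h) (ptT (h.trans h'))]
    congr 1
  exact (Category.id_comp _).symm.trans (congrArg CommaMorphism.left e)

lemma moveLift_self {T : Scheme.{u}} (x : T ⟶ C.left)
    (v : Desc.Lifts (Over.mk (fst C J').left) x) : moveLift hP u s x x rfl v = v := by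
  apply Subtype.ext
  change (move hP u s (ptV v) (ptT rfl)).left = v.1
  rw [show (ptT rfl : Over.mk (x ≫ C.hom) ⟶ C) = ptV v ≫ fst C J' from (ptV_fst v).symm, move_self]
  rfl

/-- the datum of the pushforward -/
noncomputable def datum : Desc.SchDDFam (fun _ : PUnit.{u + 1} => C.hom) where
  obj _ := Over.mk (fst C J').left
  φ T _ _ x₀ x₁ h :=
    { toFun := moveLift hP u s x₀ x₁ h
      invFun := moveLift hP u s x₁ x₀ h.symm
      left_inv := fun v => (moveLift_comp hP u s _ _ _ h h.symm v).trans (moveLift_self hP u s _ v)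
      right_inv := fun v => (moveLift_comp hP u s _ _ _ h.symm h v).trans (moveLift_self hP u s _ v) }
  φ_natural T T' g i j x₀ x₁ h y₀ y₁ hy₀ hy₁ h' v v' hv' := by
    subst hy₀ hy₁
    let φ : Over.mk ((g ≫ x₀) ≫ C.hom) ⟶ Over.mk (x₀ ≫ C.hom) :=
      Over.homMk g (Category.assoc _ _ _).symm
    have e : φ ≫ move hP u s (ptV v) (ptT h) = move hP u s (ptV v') (ptT h') := by
      rw [comp_move]
      congr 1
      · exact Over.OverMorphism.ext hv'.symm
    exact (congrArg CommaMorphism.left e).symm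
  φ_self T i x v := moveLift_self hP u s x v
  φ_comp T i j k x₀ x₁ x₂ h h' v := moveLift_comp hP u s x₀ x₁ x₂ h h' v

/-- the descended scheme: compatible and uniquely trivialised over the cover -/
theorem exists_quotient [IsAffineHom J'.hom]
    (hC : Presieve.singleton C.hom ∈ Scheme.fpqcPrecoverage S) :
    ∃ (W : Over S) (π : C ⊗ J' ⟶ W),
      (∀ (T : Over S) (t₀ t₁ : T ⟶ C) (h : T ⟶ J'),
        lift t₀ h ≫ π = lift t₁ (h * cc hP u s t₀ t₁) ≫ π) ∧
      (∀ (T : Over S) (t : T ⟶ C) (w : T ⟶ W), ∃! h : T ⟶ J', lift t h ≫ π = w) := by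
  have haff : IsAffineHom (fst C J').left := by
    change IsAffineHom (pullback.fst C.hom J'.hom)
    exact MorphismProperty.pullback_fst (P := @IsAffineHom) _ _ ‹_›
  obtain ⟨U, ⟨e⟩⟩ := SchDescent.effective_of_indQA (fun _ : PUnit.{u + 1} => C.hom)
    (SchDescent.mem_fpqc_singleton hC) (datum hP u s) fun _ => @indQA_of_isAffineHom _ _ _ haff
  let f : pullback C.hom U.hom ⟶ (C ⊗ J').left := (e.hom.hom ⟨⟩).left
  let g : (C ⊗ J').left ⟶ pullback C.hom U.hom := (e.inv.hom ⟨⟩).left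
  have hfg : f ≫ g = 𝟙 _ :=
    congr(((Desc.SchDDFam.Hom.hom $(e.hom_inv_id)) ⟨⟩).left)
  have hgf : g ≫ f = 𝟙 _ :=
    congr(((Desc.SchDDFam.Hom.hom $(e.inv_hom_id)) ⟨⟩).left)
  have hg : g ≫ pullback.fst C.hom U.hom = (fst C J').left := Over.w (e.inv.hom ⟨⟩)
  have hf : f ≫ (fst C J').left = pullback.fst C.hom U.hom := Over.w (e.hom.hom ⟨⟩)
  let π : C ⊗ J' ⟶ U := Over.homMk (g ≫ pullback.snd C.hom U.hom) (by
    rw [Category.assoc, ← pullback.condition, reassoc_of% hg]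
    exact Over.w (fst C J'))
  refine ⟨U, π, fun T t₀ t₁ h => ?_, fun T t w => ?_⟩
  · have hx : t₀.left ≫ C.hom = t₁.left ≫ C.hom := by rw [Over.w, Over.w]
    let v : Desc.Lifts (Over.mk (fst C J').left) t₀.left :=
      ⟨(lift t₀ h).left, congrArg CommaMorphism.left (lift_fst t₀ h)⟩
    let w : Desc.Lifts ((Desc.canonicalDDFam (fun _ : PUnit.{u + 1} => C.hom) U).obj ⟨⟩) t₀.left :=
      Desc.SchDDFam.Hom.push e.inv (D := datum hP u s) (i := (⟨⟩ : PUnit.{u + 1})) v
    have key := e.inv.comm (i := ⟨⟩) (j := ⟨⟩) t₀.left t₁.left hx v w rfl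
    let φ : T ⟶ Over.mk (t₀.left ≫ C.hom) := Over.homMk (𝟙 T.left) (by simp)
    have hmove : φ ≫ move hP u s (ptV v) (ptT hx) = lift t₁ (h * cc hP u s t₀ t₁) := by
      rw [comp_move, show φ ≫ ptV v = lift t₀ h from Over.OverMorphism.ext (Category.id_comp _),
        show φ ≫ ptT hx = t₁ from Over.OverMorphism.ext (Category.id_comp _), move, lift_fst,
        lift_snd]
    apply Over.OverMorphism.ext
    rw [← hmove]
    have key' : pullback.lift t₁.left (w.1 ≫ pullback.snd C.hom U.hom) _ =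
        (move hP u s (ptV v) (ptT hx)).left ≫ g := key
    have := congr($key' ≫ pullback.snd C.hom U.hom)
    rw [pullback.lift_snd, Category.assoc] at this
    refine Eq.trans ?_ ((Category.id_comp _).symm.trans
      (congrArg (𝟙 T.left ≫ ·) this) |>.trans ?_)
    · exact (Category.assoc _ _ _).symm
    · exact (Category.assoc _ _ _).symm
  · let z : T ⟶ C ⊗ J' := Over.homMk (pullback.lift t.left w.left (by rw [Over.w, Over.w]) ≫ f) (by
      rw [Category.assoc, ← Over.w (fst C J'), reassoc_of% hf, pullback.lift_fst_assoc]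
      exact Over.w t)
    have hz : z ≫ fst C J' = t := Over.OverMorphism.ext (by
      change (pullback.lift t.left w.left _ ≫ f) ≫ (fst C J').left = _
      rw [Category.assoc, hf, pullback.lift_fst])
    refine ⟨z ≫ snd C J', ?_, fun h hh => ?_⟩
    · change lift t (z ≫ snd C J') ≫ π = w
      rw [← hz, lift_comp_fst_snd]
      apply Over.OverMorphism.ext
      change (pullback.lift t.left w.left _ ≫ f) ≫ g ≫ pullback.snd C.hom U.hom = _
      rw [Category.assoc, reassoc_of% hfg, pullback.lift_snd]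
    · have hzz : lift t h = z := by
        apply Over.OverMorphism.ext
        change (lift t h).left = pullback.lift t.left w.left _ ≫ f
        rw [← Category.comp_id (lift t h).left, ← hgf, ← Category.assoc]
        congr 1
        apply pullback.hom_ext
        · rw [pullback.lift_fst, Category.assoc, hg]
          exact congrArg CommaMorphism.left (lift_fst t h)
        · rw [pullback.lift_snd, Category.assoc]
          exact congrArg CommaMorphism.left hh
      rw [← hzz, lift_snd]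

/-- The pushforward of a torsor along a homomorphism to an affine group. -/
theorem exists_pushforward [IsAffineHom J'.hom] (u : J ⟶ J') [IsMonHom u]
    (hP : NonAbH1.IsTorsorFor Scheme.fpqcPrecoverage a) :
    ∃ (W : Over S) (a' : AlgGrp.Action J' W), NonAbH1.IsTorsorFor Scheme.fpqcPrecoverage a' ∧
      NonAbH1.IsPushforwardAlongSch u a a' := by
  obtain ⟨S', p, hp, s₀, hs₀⟩ := exists_single_cover hP.2
  let C : Over S := Over.mk p
  let s : C ⟶ P := Over.homMk s₀ hs₀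
  have hC : Presieve.singleton C.hom ∈ Scheme.fpqcPrecoverage S := hp
  obtain ⟨W, π, hπ, huniq⟩ := exists_quotient hP.1 u s hC
  have hw : ∀ {T : Over S} (t : T ⟶ C) (w : T ⟶ W), ∃! h : T ⟶ J', lift t h ≫ π = w :=
    fun t w => huniq _ t w
  choose ρ hρ hρu using fun (T : Over S) (t : T ⟶ C) (w : T ⟶ W) => hw t w
  have hρ' : ∀ {T : Over S} (t₀ t₁ : T ⟶ C) (w : T ⟶ W),
      ρ T t₁ w = ρ T t₀ w * cc hP.1 u s t₀ t₁ := fun t₀ t₁ w =>
    (hρu _ t₁ w _ (by beta_reduce; rw [← hπ _ t₀ t₁, hρ])).symm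
  have hρn : ∀ {T U : Over S} (v : U ⟶ T) (t : T ⟶ C) (w : T ⟶ W),
      v ≫ ρ T t w = ρ U (v ≫ t) (v ≫ w) := fun v t w =>
    hρu _ _ _ _ (by beta_reduce; rw [← comp_lift_assoc, hρ])
  let c : C ⊗ (J' ⊗ W) ⟶ W :=
    lift (fst C (J' ⊗ W)) ((snd C (J' ⊗ W) ≫ fst J' W) *
      ρ _ (fst C (J' ⊗ W)) (snd C (J' ⊗ W) ≫ snd J' W)) ≫ π
  have hc : ∀ {T : Over S} (t : T ⟶ C) (g : T ⟶ J') (w : T ⟶ W),
      lift t (lift g w) ≫ c = lift t (g * ρ T t w) ≫ π := by
    intro T t g w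
    simp only [c, comp_lift_assoc, comp_mul, lift_fst, lift_snd, lift_fst_assoc, lift_snd_assoc, hρn]
  obtain ⟨act, hact, -⟩ := existsUnique_desc hC c fun T t₁ t₂ z => by
    rw [← lift_comp_fst_snd z, hc, hc, hπ _ t₁ t₂, hρ' t₁ t₂, _root_.mul_assoc]
  have hact' : ∀ {T : Over S} (t : T ⟶ C) (g : T ⟶ J') (w : T ⟶ W),
      lift g w ≫ act = lift t (g * ρ T t w) ≫ π := fun t g w => by rw [hact _ t, hc]
  let a' : AlgGrp.Action J' W :=
    { act := act
      one_act := hom_ext_of_cover hC (by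
        have e1 : snd C (𝟙_ (Over S) ⊗ W) ≫ (η[J'] ▷ W) =
            lift 1 (snd C (𝟙_ (Over S) ⊗ W) ≫ snd (𝟙_ (Over S)) W) := by
          apply CartesianMonoidalCategory.hom_ext
          · simp only [Category.assoc, whiskerRight_fst, lift_fst, Hom.one_def]
            rw [← Category.assoc (snd C _), ← toUnit_unique (snd C _ ≫ fst (𝟙_ (Over S)) W) (toUnit _)]
          · simp
        rw [reassoc_of% e1, hact' (fst C _), _root_.one_mul, hρ, leftUnitor_hom])
      mul_act := hom_ext_of_cover hC (by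
        let g := snd C ((J' ⊗ J') ⊗ W) ≫ fst (J' ⊗ J') W ≫ fst J' J'
        let g' := snd C ((J' ⊗ J') ⊗ W) ≫ fst (J' ⊗ J') W ≫ snd J' J'
        let w := snd C ((J' ⊗ J') ⊗ W) ≫ snd (J' ⊗ J') W
        let t := fst C ((J' ⊗ J') ⊗ W)
        have e1 : snd C ((J' ⊗ J') ⊗ W) ≫ (μ[J'] ▷ W) = lift (g * g') w := by
          apply CartesianMonoidalCategory.hom_ext
          · simp [g, g', Hom.mul_def, ← comp_lift_assoc]
          · simp [w]
        have e2 : snd C ((J' ⊗ J') ⊗ W) ≫ (α_ J' J' W).hom ≫ (J' ◁ act) =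
            lift g (lift g' w ≫ act) := by
          apply CartesianMonoidalCategory.hom_ext
          · simp [g]
          · rw [lift_snd, Category.assoc, Category.assoc, whiskerLeft_snd, ← Category.assoc,
              ← Category.assoc]
            congr 1
            apply CartesianMonoidalCategory.hom_ext <;> simp [g', w]
        rw [reassoc_of% e1, reassoc_of% e2, hact' t, hact' t g', hact' t]
        congr 2
        rw [← hρu _ t (lift t (g' * ρ _ t w) ≫ π) (g' * ρ _ t w) rfl, _root_.mul_assoc]) }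
  have ha' : ∀ {T : Over S} (t : T ⟶ C) (g : T ⟶ J') (w : T ⟶ W),
      smul a' g w = lift t (g * ρ T t w) ≫ π := fun t g w => hact' t g w
  have hpt : NonAbH1.IsPseudoTorsorSch a' := by
    refine isPseudoTorsor_of_local hp fun S'' f hf U t x y => ?_
    cases hf
    refine ⟨ρ U t y * (ρ U t x)⁻¹, ?_, fun g hg => ?_⟩
    · beta_reduce; rw [ha' t, inv_mul_cancel_right, hρ]
    · rw [eq_mul_inv_iff_mul_eq]
      exact (hρu _ t y _ (by beta_reduce; rw [← ha' t, hg]))
  have hloc : NonAbH1.IsLocallyTrivialFor Scheme.fpqcPrecoverage W := by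
    refine ⟨Presieve.singleton p, hp, ?_⟩
    rintro _ _ ⟨⟩
    exact ⟨(lift (𝟙 C) 1 ≫ π).left, Over.w (lift (𝟙 C) 1 ≫ π)⟩
  let d : C ⊗ P ⟶ W := lift (fst C P) (dv hP.1 (fst C P ≫ s) (snd C P) ≫ u) ≫ π
  have hd : ∀ {T : Over S} (t : T ⟶ C) (x : T ⟶ P),
      lift t x ≫ d = lift t (dv hP.1 (t ≫ s) x ≫ u) ≫ π := fun t x => by
    rw [← Category.assoc, comp_lift, lift_fst, ← Category.assoc, comp_dv, lift_snd,
      ← Category.assoc, lift_fst]
  obtain ⟨f, hf, -⟩ := existsUnique_desc hC d fun T t₁ t₂ x => by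
    rw [hd, hd, hπ _ t₁ t₂, cc, ← MonObj.mul_comp, dv_mul]
  refine ⟨W, a', ⟨hpt, hloc⟩, f, hom_ext_of_cover hC ?_⟩
  let t := fst C (J ⊗ P)
  let g := snd C (J ⊗ P) ≫ fst J P
  let x := snd C (J ⊗ P) ≫ snd J P
  have e1 : snd C (J ⊗ P) ≫ a.act = smul a g x := by
    rw [smul, ← comp_lift_assoc, lift_fst_snd, Category.id_comp]
  have e2 : snd C (J ⊗ P) ≫ lift (fst J P ≫ u) (snd J P ≫ f) = lift (g ≫ u) (x ≫ f) := by
    simp only [g, x, comp_lift, Category.assoc]
  have hfx : x ≫ f = lift t (dv hP.1 (t ≫ s) x ≫ u) ≫ π := by rw [hf _ t, hd]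
  have e3 : ρ _ t (x ≫ f) = dv hP.1 (t ≫ s) x ≫ u := (hρu _ _ _ _ hfx.symm).symm
  rw [reassoc_of% e1, reassoc_of% e2, hf _ t, hd]
  change _ = smul a' (g ≫ u) (x ≫ f)
  rw [ha' t, e3, ← MonObj.mul_comp]
  congr 3
  exact (dv_unique hP.1 (by rw [Torsor.mul_smul, dv_spec])).symm

end Groth.Agent.Torsor.Push
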