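import Groth.Agent.Torsor.Pushforward

/-! # Morphisms out of a pushed-forward torsor -/

universe u

open CategoryTheory CategoryTheory.Limits MonoidalCategory CartesianMonoidalCategory MonObj AlgebraicGeometry

namespace Groth.Agent.Torsor.Push

variable {S : Scheme.{u}}

/-- equivariance, on points -/
lemma smul_comp_of_eq {J J' P P' : Over S} [GrpObj J] [GrpObj J'] {a : AlgGrp.Action J P}
    {a' : AlgGrp.Action J' P'} {u : J ⟶ J'} {f : P ⟶ P'}
    (h : a.act ≫ f = lift (fst J P ≫ u) (snd J P ≫ f) ≫ a'.act) {T : Over S} (g : T ⟶ J)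
    (x : T ⟶ P) : smul a g x ≫ f = smul a' (g ≫ u) (x ≫ f) := by
  rw [smul, smul, Category.assoc, h, ← Category.assoc, comp_lift, lift_fst_assoc, lift_snd_assoc]

theorem existsUnique_hom {J J' J'' P P' P'' : Over S} [GrpObj J] [GrpObj J'] [GrpObj J'']
    (u : J ⟶ J') (v : J' ⟶ J'') [IsMonHom v] {a : AlgGrp.Action J P} {a' : AlgGrp.Action J' P'}
    {a'' : AlgGrp.Action J'' P''} (hP : NonAbH1.IsTorsorFor Scheme.fpqcPrecoverage a)
    (hP' : NonAbH1.IsPseudoTorsorSch a')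
    (q' : P ⟶ P') (hq' : a.act ≫ q' = lift (fst J P ≫ u) (snd J P ≫ q') ≫ a'.act)
    (q'' : P ⟶ P'') (hq'' : a.act ≫ q'' = lift (fst J P ≫ u ≫ v) (snd J P ≫ q'') ≫ a''.act) :
    ∃! r : P' ⟶ P'', a'.act ≫ r = lift (fst J' P' ≫ v) (snd J' P' ≫ r) ≫ a''.act ∧ q' ≫ r = q'' := by
  obtain ⟨S', p, hp, s₀, hs₀⟩ := exists_single_cover hP.2
  let C : Over S := Over.mk p
  let s : C ⟶ P := Over.homMk s₀ hs₀
  have hC : Presieve.singleton C.hom ∈ Scheme.fpqcPrecoverage S := hp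
  let c : C ⊗ P' ⟶ P'' :=
    smul a'' (dv hP' ((fst C P' ≫ s) ≫ q') (snd C P') ≫ v) ((fst C P' ≫ s) ≫ q'')
  have hc : ∀ {T : Over S} (t : T ⟶ C) (y : T ⟶ P'),
      lift t y ≫ c = smul a'' (dv hP' ((t ≫ s) ≫ q') y ≫ v) ((t ≫ s) ≫ q'') := by
    intro T t y
    simp only [c, comp_smul, ← Category.assoc, comp_dv, lift_fst, lift_snd]
  -- value at a point, computed from any point of `P`
  have hval : ∀ {T : Over S} (x x₀ : T ⟶ P) (g : T ⟶ J') (y : T ⟶ P'),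
      smul a' g (x ≫ q') = y →
      smul a'' (dv hP' (x₀ ≫ q') y ≫ v) (x₀ ≫ q'') = smul a'' (g ≫ v) (x ≫ q'') := by
    intro T x x₀ g y hy
    obtain ⟨d, hd, -⟩ := (isPseudoTorsor_iff a).mp hP.1 T x₀ x
    have e1 : dv hP' (x₀ ≫ q') y = g * (d ≫ u) := by
      refine (dv_unique hP' ?_).symm
      rw [Torsor.mul_smul, ← smul_comp_of_eq hq', hd, hy]
    rw [e1, MonObj.mul_comp, Torsor.mul_smul, Category.assoc, ← smul_comp_of_eq hq'', hd]
  obtain ⟨r, hr, -⟩ := existsUnique_desc hC c fun T t₁ t₂ y => by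
    rw [hc, hc]
    exact hval _ _ _ _ (dv_spec hP' _ _)
  have hrv : ∀ {T : Over S} (t : T ⟶ C) (y : T ⟶ P') (g : T ⟶ J') (x : T ⟶ P),
      smul a' g (x ≫ q') = y → y ≫ r = smul a'' (g ≫ v) (x ≫ q'') := fun t y g x h => by
    rw [hr _ t, hc]
    exact hval _ _ _ _ h
  refine ⟨r, ⟨hom_ext_of_cover hC ?_, hom_ext_of_cover hC ?_⟩, fun r' hr' => hom_ext_of_cover hC ?_⟩
  · let t := fst C (J' ⊗ P')
    let g := snd C (J' ⊗ P') ≫ fst J' P'
    let y := snd C (J' ⊗ P') ≫ snd J' P'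
    have e1 : snd C (J' ⊗ P') ≫ a'.act = smul a' g y := by
      rw [smul, ← comp_lift_assoc, lift_fst_snd, Category.id_comp]
    have e2 : snd C (J' ⊗ P') ≫ lift (fst J' P' ≫ v) (snd J' P' ≫ r) = lift (g ≫ v) (y ≫ r) := by
      simp only [g, y, comp_lift, Category.assoc]
    rw [reassoc_of% e1, reassoc_of% e2]
    change smul a' g y ≫ r = smul a'' (g ≫ v) (y ≫ r)
    rw [hrv t (smul a' g y) (g * dv hP' ((t ≫ s) ≫ q') y) (t ≫ s)
        (by rw [Torsor.mul_smul, dv_spec]),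
      hrv t y _ _ (dv_spec hP' ((t ≫ s) ≫ q') y), MonObj.mul_comp, Torsor.mul_smul]
  · rw [← Category.assoc, hrv (fst C P) _ 1 (snd C P) (Torsor.one_smul _ _), MonObj.one_comp,
      Torsor.one_smul]
  · let x := fst C P' ≫ s
    have hy : smul a' (dv hP' (x ≫ q') (snd C P')) (x ≫ q') = snd C P' := dv_spec hP' _ _
    rw [hrv (fst C P') _ _ _ hy]
    conv_lhs => rw [← hy, smul_comp_of_eq hr'.1, Category.assoc x, hr'.2]

end Groth.Agent.Torsor.Push
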