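import Groth.Agent.Torsor.Points
import Mathlib.AlgebraicGeometry.Sites.Fpqc

/-!
Functions on the base of an fpqc torsor are the invariant functions on the torsor.
-/

universe v u

open CategoryTheory CategoryTheory.Limits MonoidalCategory CartesianMonoidalCategory AlgebraicGeometry Polynomial

set_option autoImplicit false

namespace Groth.Agent.Torsor

theorem existsUnique_glueArrows {P Z : Scheme.{u}} {I : Type v} {Q : I → Scheme.{u}} {g : ∀ i, Q i ⟶ P}
    (hg : Presieve.ofArrows Q g ∈ Scheme.fpqcPrecoverage P) (x : ∀ i, Q i ⟶ Z)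
    (h : ∀ (i j : I) (W : Scheme.{u}) (a : W ⟶ Q i) (b : W ⟶ Q j), a ≫ g i = b ≫ g j → a ≫ x i = b ≫ x j) :
    ∃! y : P ⟶ Z, ∀ i, g i ≫ y = x i := by
  have hs := (GrothendieckTopology.Subcanonical.isSheaf_of_isRepresentable
    (J := Scheme.fpqcTopology) (yoneda.obj Z)).isSheafFor _ (Precoverage.generate_mem_toGrothendieck hg)
  rw [Presieve.isSheafFor_arrows_iff] at hs
  exact hs x fun i j W a b hab ↦ h i j W a b hab

/-- the coordinate ring of the affine line -/
noncomputable abbrev lineRing : CommRingCat.{u} := CommRingCat.of (Polynomial (ULift.{u} ℤ))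

/-- the function of a morphism to the affine line -/
noncomputable def funOfHom {Y : Scheme.{u}} (φ : Y ⟶ Spec lineRing) : Γ(Y, ⊤) :=
  ((Scheme.ΓSpecIso lineRing).inv ≫ φ.appTop).hom Polynomial.X

lemma funOfHom_comp {Y Y' : Scheme.{u}} (f : Y' ⟶ Y) (φ : Y ⟶ Spec lineRing) :
    funOfHom (f ≫ φ) = f.appTop.hom (funOfHom φ) := rfl

lemma funOfHom_injective {Y : Scheme.{u}} : Function.Injective (funOfHom (Y := Y)) := by
  intro φ ψ h
  refine ext_of_isAffine ?_
  rw [← cancel_epi (Scheme.ΓSpecIso lineRing).inv]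
  refine CommRingCat.hom_ext (Polynomial.ringHom_ext' (RingHom.ext fun n => ?_) h)
  obtain ⟨n⟩ := n
  have : (⟨n⟩ : ULift.{u} ℤ) = (n : ULift.{u} ℤ) := rfl
  rw [this]
  simp only [map_intCast]

lemma funOfHom_surjective {Y : Scheme.{u}} : Function.Surjective (funOfHom (Y := Y)) := by
  intro s
  let ψ : lineRing ⟶ Γ(Y, ⊤) := CommRingCat.ofHom
    (Polynomial.eval₂RingHom ((Int.castRingHom Γ(Y, ⊤)).comp (ULift.ringEquiv.toRingHom : ULift.{u} ℤ →+* ℤ)) s)
  refine ⟨Y.toSpecΓ ≫ Spec.map ψ, ?_⟩
  have e : (Scheme.ΓSpecIso lineRing).inv ≫ (Y.toSpecΓ ≫ Spec.map ψ).appTop = ψ := by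
    rw [Scheme.Hom.comp_appTop, ← Scheme.ΓSpecIso_inv_naturality_assoc, Scheme.toSpecΓ_appTop, Iso.inv_hom_id,
      Category.comp_id]
  rw [funOfHom, e]
  exact Polynomial.eval₂_X _ _

variable {S : Scheme.{u}} {G X : Over S} [GrpObj G]

theorem invariants {a : AlgGrp.Action G X} (ha : NonAbH1.IsTorsorFor Scheme.fpqcPrecoverage a) :
    Function.Injective X.hom.appTop.hom ∧ ∀ s : Γ(X.left, ⊤), s ∈ Set.range X.hom.appTop.hom ↔
      a.act.left.appTop.hom s = (CartesianMonoidalCategory.snd G X).left.appTop.hom s := by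
  obtain ⟨hps, R, hR, hs⟩ := ha
  obtain ⟨I, Q, g, rfl⟩ := R.exists_eq_ofArrows
  have hsec : ∀ i, ∃ σ : Q i ⟶ X.left, σ ≫ X.hom = g i := fun i => hs (g i) ⟨i⟩
  choose σ hσ using hsec
  constructor
  · intro r r' h
    obtain ⟨φ, rfl⟩ := funOfHom_surjective r
    obtain ⟨φ', rfl⟩ := funOfHom_surjective r'
    rw [← funOfHom_comp, ← funOfHom_comp] at h
    have h' := funOfHom_injective h
    refine congrArg funOfHom ((existsUnique_glueArrows hR (fun i => g i ≫ φ') fun i j W p q hpq => by
      rw [← Category.assoc, hpq, Category.assoc]).unique (fun i => ?_) fun i => rfl)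
    rw [← hσ i, Category.assoc, h', ← Category.assoc]
  · intro s
    obtain ⟨φ, rfl⟩ := funOfHom_surjective s
    constructor
    · rintro ⟨r, hr⟩
      rw [← hr]
      have e : a.act.left ≫ X.hom = (CartesianMonoidalCategory.snd G X).left ≫ X.hom :=
        (Over.w a.act).trans (Over.w (CartesianMonoidalCategory.snd G X)).symm
      exact congrArg (fun k => k.appTop.hom r) e
    · intro hinv
      rw [← funOfHom_comp, ← funOfHom_comp] at hinv
      have hinv' := funOfHom_injective hinv
      -- two points over the same base point give the same value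
      have key : ∀ (W : Scheme.{u}) (x y : W ⟶ X.left), x ≫ X.hom = y ≫ X.hom → x ≫ φ = y ≫ φ := by
        intro W x y hxy
        let x' : Over.mk (x ≫ X.hom) ⟶ X := Over.homMk x rfl
        let y' : Over.mk (x ≫ X.hom) ⟶ X := Over.homMk y hxy.symm
        obtain ⟨c, hc, -⟩ := (isPseudoTorsor_iff a).1 hps _ x' y'
        have h1 : (lift c x').left ≫ a.act.left = y := congrArg CommaMorphism.left hc
        have h2 : (lift c x').left ≫ (snd G X).left = x := congrArg CommaMorphism.left (lift_snd c x')
        calc x ≫ φ = ((lift c x').left ≫ (snd G X).left) ≫ φ := congrArg (· ≫ φ) h2.symm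
          _ = ((lift c x').left ≫ a.act.left) ≫ φ := by rw [Category.assoc, Category.assoc, hinv']
          _ = y ≫ φ := congrArg (· ≫ φ) h1
      obtain ⟨y, hy, -⟩ := existsUnique_glueArrows hR (fun i => σ i ≫ φ) fun i j W p q hpq => by
        have := key W (p ≫ σ i) (q ≫ σ j) (by rw [Category.assoc, Category.assoc, hσ, hσ, hpq])
        simpa only [Category.assoc] using this
      refine ⟨funOfHom y, ?_⟩
      rw [← funOfHom_comp]
      refine congrArg funOfHom ?_
      have hcov := Precoverage.mem_coverings_of_isPullback g hR X.hom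
        (fun i => pullback.snd (g i) X.hom) (fun i => pullback.fst (g i) X.hom)
        fun i => (IsPullback.of_hasPullback _ _).flip
      refine (existsUnique_glueArrows hcov (fun i => pullback.snd (g i) X.hom ≫ φ) fun i j W p q hpq => by
        rw [← Category.assoc, hpq, Category.assoc]).unique (fun i => ?_) fun i => rfl
      have e1 := key _ (pullback.fst (g i) X.hom ≫ σ i) (pullback.snd (g i) X.hom)
        (by rw [Category.assoc, hσ]; exact pullback.condition)
      rw [← pullback.condition_assoc, hy i, ← Category.assoc]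
      exact e1

end Groth.Agent.Torsor
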