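import Groth.Agent.HTopV.Fpqc
import Groth.Prelude.Def_NonAbH2

/-! # One fpqc morphism trivialising a locally trivial scheme -/

universe u

open CategoryTheory CategoryTheory.Limits AlgebraicGeometry

namespace Groth.Agent.Torsor

/-- A locally trivial scheme acquires a section over a single covering morphism. -/
theorem exists_single_cover {S : Scheme.{u}} {X : Over S}
    (h : NonAbH1.IsLocallyTrivialFor Scheme.fpqcPrecoverage X) :
    ∃ (S' : Scheme.{u}) (p : S' ⟶ S), Presieve.singleton p ∈ Scheme.fpqcPrecoverage S ∧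
      NonAbH1.HasSectionOver X p := by
  obtain ⟨R, hR, hsec⟩ := h
  obtain ⟨𝒰, hqc, rfl⟩ := Scheme.mem_propQCPrecoverage_iff_exists_quasiCompactCover.mp hR
  choose n idx V hV hcov using fun U : S.affineOpens =>
    QuasiCompactCover.exists_isAffineOpen_of_isCompact 𝒰.toPreZeroHypercover U.2.isCompact
  choose s hs using fun i => hsec (𝒰.f i) (Presieve.ofArrows.mk i)
  let E : PreZeroHypercover.{u} S :=
    { I₀ := Σ U : S.affineOpens, Fin (n U)
      X := fun j => (V j.1 j.2).toScheme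
      f := fun j => (V j.1 j.2).ι ≫ 𝒰.f (idx j.1 j.2) }
  have hmem : E.presieve₀ ∈ Scheme.fpqcPrecoverage S := by
    refine (HTopV.mem_fpqc_iff E).mpr ⟨⟨fun {U} hU => ?_⟩, fun x => ?_, fun j => ?_⟩
    · refine .of_finite (κ := Fin (n ⟨U, hU⟩)) (fun j => ⟨⟨U, hU⟩, j⟩) (fun j => ⊤) (fun j => ?_) ?_
      · have : IsAffine (V ⟨U, hU⟩ j).toScheme := hV _ j
        exact isCompact_univ
      · refine Eq.trans ?_ (hcov ⟨U, hU⟩)
        refine Set.iUnion_congr fun j => ?_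
        change (fun x => 𝒰.f (idx ⟨U, hU⟩ j) ((V ⟨U, hU⟩ j).ι x)) '' Set.univ = _
        rw [← Set.image_image (g := 𝒰.f (idx ⟨U, hU⟩ j)), Set.image_univ, Scheme.Opens.range_ι]
    · obtain ⟨_, ⟨U, hU, rfl⟩, hxU, -⟩ :=
        S.isBasis_affineOpens.exists_subset_of_mem_open (Set.mem_univ x) isOpen_univ
      obtain ⟨j, z, hz, rfl⟩ := Set.mem_iUnion.mp ((hcov ⟨U, hU⟩).ge hxU)
      exact ⟨⟨⟨U, hU⟩, j⟩, ⟨z, hz⟩, rfl⟩
    · have : Flat (𝒰.f (idx j.1 j.2)) := 𝒰.map_prop _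
      exact inferInstanceAs (Flat ((V j.1 j.2).ι ≫ _))
  refine ⟨_, Sigma.desc E.f, (HTopV.mem_fpqc_iff_sigmaDesc E).mp hmem,
    Sigma.desc fun j => (V j.1 j.2).ι ≫ s (idx j.1 j.2), Sigma.hom_ext _ _ fun j => ?_⟩
  simp only [Sigma.ι_desc_assoc, Sigma.ι_desc, Category.assoc, hs]
  rfl

end Groth.Agent.Torsor
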