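import Groth.Agent.Torsor.PushHom
import Mathlib.CategoryTheory.Monoidal.Cartesian.Grp_

/-! # short exact sequences of group schemes, on points -/

universe u

open CategoryTheory CategoryTheory.Limits MonoidalCategory CartesianMonoidalCategory MonObj GrpObj AlgebraicGeometry

namespace Groth.Agent.Torsor

variable {S : Scheme.{u}} {G G' G'' X : Over S} [GrpObj G] [GrpObj G'] [GrpObj G'']

lemma trivialAction_smul {T : Over S} (g x : T ⟶ G) : smul (NonAbH1.trivialAction G) g x = g * x := by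
  rw [Hom.mul_def]; rfl

lemma eq_of_smul {Y : Over S} {a : AlgGrp.Action G' X} {b : AlgGrp.Action G Y} {u : G' ⟶ G} {f : X ⟶ Y}
    (h : ∀ (T : Over S) (g : T ⟶ G') (x : T ⟶ X), smul a g x ≫ f = smul b (g ≫ u) (x ≫ f)) :
    a.act ≫ f = lift (fst G' X ≫ u) (snd G' X ≫ f) ≫ b.act := by
  have e := h _ (fst G' X) (snd G' X)
  rwa [smul, smul, lift_fst_snd, Category.id_comp] at e

variable {K : Precoverage Scheme.{u}} {u : G' ⟶ G} {v : G ⟶ G''}

lemma comp_eq_one_of_exact (hex : NonAbH1.IsExactSeq K u v) {T : Over S} (g : T ⟶ G') :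
    (g ≫ u) ≫ v = 1 := by
  rw [Category.assoc, hex.2.2.1, comp_one]

lemma existsUnique_div_of_exact (hex : NonAbH1.IsExactSeq K u v) {T : Over S} (y z : T ⟶ G)
    (h : y ≫ v = z ≫ v) : ∃! g : T ⟶ G', y * (g ≫ u) = z := by
  obtain ⟨-, -, -, hsq, -⟩ := hex
  have key : ∀ (a : T ⟶ G) (g : T ⟶ G'), lift a g ≫ (G ◁ u) ≫ μ[G] = a * (g ≫ u) := by
    intro a g
    rw [Hom.mul_def, lift_whiskerLeft_assoc]
  refine ⟨hsq.lift y z h ≫ snd G G', ?_, fun g hg => ?_⟩
  · change y * ((hsq.lift y z h ≫ snd G G') ≫ u) = z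
    rw [← key, show lift y (hsq.lift y z h ≫ snd G G') = hsq.lift y z h by
      apply CartesianMonoidalCategory.hom_ext <;> simp, hsq.lift_snd]
  · have e : lift y g = hsq.lift y z h := hsq.hom_ext (by simp) (by rw [key, hsq.lift_snd]; exact hg)
    rw [← e, lift_snd]

lemma eq_one_of_exact (hex : NonAbH1.IsExactSeq K u v) {T : Over S} {g : T ⟶ G'} (h : g ≫ u = 1) :
    g = 1 := by
  have : IsMonHom u := hex.1
  obtain ⟨g₀, -, hu⟩ := existsUnique_div_of_exact hex (1 : T ⟶ G) 1 rfl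
  rw [hu g (by simp [h]), hu 1 (by simp [MonObj.one_comp])]

end Groth.Agent.Torsor
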