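import Groth.Agent.Torsor.SingleCover
import Groth.Agent.Torsor.Descent
import Groth.Agent.SchDescent.Glue
import Groth.Agent.SchDescent.IndQAEff

/-! # Morphisms and affine schemes descended along one covering morphism -/

universe u

open CategoryTheory CategoryTheory.Limits MonoidalCategory CartesianMonoidalCategory MonObj AlgebraicGeometry

namespace Groth.Agent.Torsor

variable {S : Scheme.{u}} {C : Over S} (hC : Presieve.singleton C.hom ∈ Scheme.fpqcPrecoverage S)

include hC in
lemma snd_mem (Z : Over S) :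
    Presieve.singleton (snd C Z).left ∈ Scheme.fpqcPrecoverage Z.left :=
  SchDescent.singleton_pullback_mem hC (IsPullback.of_hasPullback C.hom Z.hom).flip

include hC in
/-- two morphisms agreeing on the covering are equal -/
lemma hom_ext_of_cover {Z W : Over S} {r r' : Z ⟶ W} (h : snd C Z ≫ r = snd C Z ≫ r') : r = r' := by
  have := SchDescent.epi_of_mem (snd_mem hC Z)
  ext1
  rw [← cancel_epi (snd C Z).left, ← Over.comp_left, h, Over.comp_left]

include hC in
/-- a morphism given on the covering and independent of the point of the covering descends -/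
theorem existsUnique_desc {Z W : Over S} (c : C ⊗ Z ⟶ W)
    (h : ∀ (T : Over S) (t₁ t₂ : T ⟶ C) (z : T ⟶ Z), lift t₁ z ≫ c = lift t₂ z ≫ c) :
    ∃! r : Z ⟶ W, ∀ (T : Over S) (t : T ⟶ C) (z : T ⟶ Z), z ≫ r = lift t z ≫ c := by
  let π := (snd C Z).left
  let A : Over S := Over.mk (pullback.fst π π ≫ (C ⊗ Z).hom)
  let g₁ : A ⟶ C ⊗ Z := Over.homMk (pullback.fst π π) rfl
  let g₂ : A ⟶ C ⊗ Z := Over.homMk (pullback.snd π π) (by
    change pullback.snd π π ≫ (C ⊗ Z).hom = pullback.fst π π ≫ (C ⊗ Z).hom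
    rw [← Over.w (snd C Z), pullback.condition_assoc])
  have h12 : g₁ ≫ snd C Z = g₂ ≫ snd C Z := Over.OverMorphism.ext pullback.condition
  have hc : g₁ ≫ c = g₂ ≫ c := by
    rw [← lift_comp_fst_snd g₁, ← lift_comp_fst_snd g₂, h12]
    exact h _ _ _ _
  obtain ⟨y, hy, -⟩ := SchDescent.existsUnique_glue_singleton (snd_mem hC Z) c.left
    (congrArg CommaMorphism.left hc)
  have : Epi π := SchDescent.epi_of_mem (snd_mem hC Z)
  let r : Z ⟶ W := Over.homMk y (by
    rw [← cancel_epi π, reassoc_of% hy, Over.w c]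
    exact (Over.w (snd C Z)).symm)
  have hr : snd C Z ≫ r = c := Over.OverMorphism.ext hy
  refine ⟨r, fun T t z => ?_, fun r' hr' => hom_ext_of_cover hC ?_⟩
  · rw [← hr, lift_snd_assoc]
  · rw [hr, hr' _ (fst C Z) (snd C Z), lift_fst_snd, Category.id_comp]

lemma indQA_of_isAffineHom {X Y : Scheme.{u}} (f : X ⟶ Y) [IsAffineHom f] :
    MoreMor.IsIndQuasiAffineHom f := by
  intro V hV U hU
  have : IsAffine (f ⁻¹ᵁ V).toScheme := hV.preimage f
  have : CompactSpace U.toScheme := isCompact_iff_compactSpace.mp hU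
  exact Scheme.IsQuasiAffine.of_isImmersion U.ι

end Groth.Agent.Torsor
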